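import Groth.Agent.EtVan.OpensSeq
import Groth.Agent.EtVan.DimBound
import Groth.Agent.EtVan.MVBound
import Groth.Agent.EtQC.UnitIdeal
import Groth.Agent.EtQC.Closure
import Groth.Agent.EtQC.Zero
import Mathlib.AlgebraicGeometry.Morphisms.Affine

/-!
Serre's criterion of affineness for schemes, with etale cohomology of quasi-coherent modules.
-/

set_option autoImplicit false
set_option linter.style.haveILetI false
set_option backward.isDefEq.respectTransparency false

universe u

noncomputable section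

open CategoryTheory CategoryTheory.Limits CategoryTheory.Abelian AlgebraicGeometry Opposite AlgSp

namespace Groth.Agent.EtSerre

open Groth.Agent.EtVan Groth.Agent.EtQC Groth.Agent.AlgSpLib

variable {S : Scheme.{u}}

/-- first cohomology of quasi-coherent modules vanishes -/
def H1Zero (X : Sp S) : Prop := ∀ M : ModEt X, M.IsQuasicoherent → Subsingleton (HModEt X M 1)

/-- the scheme itself as an object of its etale site -/
abbrev top0 (Y : Over S) : EtOver ((yon S).obj Y) := EtOver.mk (Iso.refl _).hom (repWith_of_isIso _)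

/-- the underlying function of a section of the structure sheaf -/
def dn {X : Sp S} (E : EtOver X) (s : sectModEt (unitModEt X) E) : Γ(E.obj.left.left, ⊤) := (show R E from s).down

theorem dn_resM {X : Sp S} {E V : EtOver X} (g : V ⟶ E) (s : sectModEt (unitModEt X) E) :
    dn V (resM (unitModEt X) g s) = g.hom.left.left.appTop.hom (dn E s) := rfl

theorem dn_sub {X : Sp S} (E : EtOver X) (s t : sectModEt (unitModEt X) E) : dn E (s - t) = dn E s - dn E t := rfl

theorem exists_diff {X : Sp S} {E : EtOver X} {G : AbEt X} {A B Z U : E.obj.left.left.Opens} (hZA : Z ≤ A) (hZB : Z ≤ B)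
    (hAU : A ≤ U) (hBU : B ≤ U) (hU : U ≤ A ⊔ B) (hZ : A ⊓ B ≤ Z)
    (h : Subsingleton (Ext.{u + 1} ((P X).obj (openObj E U)) G 1)) (s : sect G (openObj E Z)) :
    ∃ (a : sect G (openObj E A)) (b : sect G (openObj E B)),
      G.obj.map (openLE hZA).op a - G.obj.map (openLE hZB).op b = s := by
  obtain ⟨x₂, hx⟩ := Ext.contravariant_sequence_exact₁ (mvSeq_shortExact hZA hZB hAU hBU hU hZ) G
    (Ext.mk₀ (σ.symm s)) (add_zero 1) (h.elim _ _)
  obtain ⟨ψ, rfl⟩ := (Ext.mk₀_bijective _ _).2 x₂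
  rw [Ext.mk₀_comp_mk₀] at hx
  have e : (mvSeq hZA hZB hAU hBU).f ≫ ψ = σ.symm s := (Ext.mk₀_bijective _ _).1 hx
  refine ⟨σ (biprod.inl ≫ ψ), σ (biprod.inr ≫ ψ), ?_⟩
  rw [← σ_map, ← σ_map, sub_eq_add_neg, ← σ_neg, ← σ_add]
  refine (congrArg σ ?_).trans (σ.apply_symm_apply s)
  refine Eq.trans ?_ e
  show _ = biprod.lift _ _ ≫ ψ
  rw [biprod.lift_eq, Preadditive.add_comp, Category.assoc, Category.assoc, Preadditive.neg_comp]

variable {Y : Over S}

theorem subsingleton_ext_top0 (h : H1Zero ((yon S).obj Y)) (M : ModEt ((yon S).obj Y)) (hM : M.IsQuasicoherent)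
    (hO : (⊤ : Y.left.Opens) ≤ ⊤) :
    Subsingleton (Ext.{u + 1} ((P _).obj (openObj (top0 Y) ⊤)) ((toAbEt _).obj M) 1) := by
  obtain ⟨g', hg'⟩ := exists_lift_open (O := (⊤ : (top0 Y).obj.left.left.Opens)) (𝟙 (top0 Y)) fun _ => trivial
  refine subsingleton_ext_of_retract (openHom (top0 Y) ⊤) g' ?_ _ _
    (subsingleton_ext_of_HEt (isTerminalOfIso (Iso.refl _)) _ _ (h M hM))
  rw [← cancel_mono (openHom (top0 Y) ⊤), Category.assoc, hg', Category.comp_id, Category.id_comp]

theorem preT_top0 (C : Set Y.left) : preT (Points.schemeHomeo Y '' C) (top0 Y) = C := by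
  ext w
  show Points.schemeHomeo Y w ∈ Points.schemeHomeo Y '' C ↔ w ∈ C
  exact (Points.schemeHomeo Y).injective.mem_set_image

theorem exists_ideal_of_closed {C : Set Y.left} (hC : IsClosed C) :
    ∃ (J : IdealEt ((yon S).obj Y)) (_ : J.IsQCoh), ∀ (V : EtOver ((yon S).obj Y)) (hV : IsAffine V.obj.left.left),
      V.obj.left.left.zeroLocus (U := ⊤) ((J.ideal V hV : Ideal Γ(V.obj.left.left, ⊤)) : Set Γ(V.obj.left.left, ⊤)) =
        preT (Points.schemeHomeo Y '' C) V := by
  have hX := IsAlgSpace.yon_obj Y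
  obtain ⟨Z', i', hZ', hi', hr', -⟩ := Groth.Agent.SpQS.exists_redInduced hX
    ((Points.schemeHomeo Y).isClosedMap _ hC)
  refine ⟨idealOfRep hi'.1, Groth.Agent.SchImg.idealOfRep_isQCoh hZ' hX hi'.1
    ((Groth.Agent.AlgSpLib.isQuasiCompactMor_iff_repWith hZ' hX hi'.1).2
      (Groth.Agent.AlgSpLib.repWith_mono (P := @IsClosedImmersion) (Q := @QuasiCompact)
        (fun _ _ g hg => have : IsClosedImmersion g := hg; inferInstance) hi')), fun V hV => ?_⟩
  rw [zeroLocus_eq_preT_of_isCutOutBy (I := idealOfRep hi'.1) (i := i') ⟨hi', rfl⟩ V hV, hr']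

theorem exists_basicOpen_of_isClosed (h : H1Zero ((yon S).obj Y)) {x : Y.left} (hx : IsClosed ({x} : Set Y.left))
    {U : Y.left.Opens} (hU : IsAffineOpen U) (hxU : x ∈ U) :
    ∃ f : Γ(Y.left, ⊤), x ∈ Y.left.basicOpen f ∧ IsAffineOpen (Y.left.basicOpen f) := by
  classical
  let B : Y.left.Opens := ⟨{x}ᶜ, hx.isOpen_compl⟩
  let C : Set Y.left := (U : Set Y.left)ᶜ ∪ {x}
  have hCc : IsClosed C := U.2.isClosed_compl.union hx
  obtain ⟨J, hJ, hJz⟩ := exists_ideal_of_closed hCc
  haveI := isQuasicoherent_unitModEt (X := (yon S).obj Y)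
  let τ := idealFam J hJ
  have hN : τ.toMod.IsQuasicoherent := τ.isQuasicoherent_toMod
  have hcov : (⊤ : Y.left.Opens) ≤ U ⊔ B := fun y _ => by
    by_cases hy : y = x
    · exact Or.inl (hy ▸ hxU)
    · exact Or.inr hy
  let E := top0 Y
  -- the section equal to one away from the closed set
  have h1 : upS (openObj E (U ⊓ B)) 1 ∈ τ.objSub (openObj E (U ⊓ B)) := by
    intro V hV g
    haveI := hV
    have hz : V.obj.left.left.zeroLocus (U := ⊤) ((J.ideal V hV : Ideal Γ(V.obj.left.left, ⊤)) : Set _) = ∅ := by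
      rw [hJz V hV, ← preimage_preT _ g, ← preimage_preT _ (openHom E (U ⊓ B)), preT_top0,
        Set.eq_empty_iff_forall_notMem]
      intro v hv
      have hm := (g.hom.left.left v).2
      rcases hv with hv | hv
      · exact hv hm.1
      · exact hm.2 hv
    have htop : J.ideal V hV = ⊤ :=
      Ideal.radical_eq_top.1 (top_le_iff.1 (le_radical_of_zeroLocus_subset (by rw [hz]; exact Set.empty_subset _)))
    show _ ∈ J.ideal V hV
    rw [htop]
    trivial
  -- functions in the ideal vanish on the closed set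
  have hvan : ∀ (O : Y.left.Opens) (b : sectModEt τ.toMod (openObj E O)) (t : O.toScheme), t.1 ∈ C →
      dn _ (appM τ.ι (openObj E O) b) ∈ primeAtPt O.toScheme t := by
    intro O b t ht
    obtain ⟨V, hV, g, v, hv⟩ := exists_affine_nhd (openObj E O) t
    haveI := hV
    have hm : resM (unitModEt _) g (appM τ.ι (openObj E O) b) ∈ τ.sub V hV := by
      rw [resM_appM τ.ι g b, ← SetLike.mem_coe, ← τ.range_ι V hV]
      exact ⟨_, rfl⟩
    have hvz : v ∈ V.obj.left.left.zeroLocus (U := ⊤) ((J.ideal V hV : Ideal Γ(V.obj.left.left, ⊤)) : Set _) := by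
      rw [hJz V hV, ← preimage_preT _ g, ← preimage_preT _ (openHom E O), preT_top0, Set.mem_preimage,
        Set.mem_preimage, hv]
      exact ht
    have hp := (mem_zeroLocus_ideal _ _).1 hvz hm
    have e := (primeAtPt_comap g.hom.left.left v).trans (congrArg (primeAtPt O.toScheme) hv)
    rw [← e]
    exact hp
  obtain ⟨a, b, hab⟩ := exists_diff (G := (toAbEt _).obj τ.toMod) (inf_le_left : U ⊓ B ≤ U) (inf_le_right : U ⊓ B ≤ B)
    le_top le_top hcov le_rfl (subsingleton_ext_top0 h _ hN le_rfl)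
    (show sectModEt τ.toMod (openObj E (U ⊓ B)) from ⟨upS (openObj E (U ⊓ B)) 1, h1⟩)
  let a' : sectModEt (unitModEt _) (openObj E U) := appM τ.ι (openObj E U) a
  let b' : sectModEt (unitModEt _) (openObj E B) := appM τ.ι (openObj E B) b
  have hab' : resM (unitModEt _) (openLE (inf_le_left : U ⊓ B ≤ U)) (upS (openObj E U) 1 - a') =
      resM (unitModEt _) (openLE (inf_le_right : U ⊓ B ≤ B)) (-b') := by
    have e := congrArg (appM τ.ι (openObj E (U ⊓ B))) hab
    have e' : resM (unitModEt _) (openLE (inf_le_left : U ⊓ B ≤ U)) a' -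
        resM (unitModEt _) (openLE (inf_le_right : U ⊓ B ≤ B)) b' = upS (openObj E (U ⊓ B)) 1 := by
      rw [resM_appM, resM_appM]
      exact ((appM τ.ι (openObj E (U ⊓ B))).map_sub _ _).symm.trans e
    rw [map_sub, map_neg, resM_upS, map_one, ← e']
    abel
  obtain ⟨t, htA, htB⟩ := exists_desc_mvSeq (G := (toAbEt _).obj (unitModEt _)) (inf_le_left : U ⊓ B ≤ U)
    (inf_le_right : U ⊓ B ≤ B) le_top le_top hcov le_rfl (upS (openObj E U) 1 - a') (-b') hab'
  obtain ⟨g', hg'⟩ := exists_lift_open (O := (⊤ : E.obj.left.left.Opens)) (𝟙 E) fun _ => trivial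
  let f : Γ(Y.left, ⊤) := dn E (resM (unitModEt _) g' t)
  have hf : ∀ {O : Y.left.Opens} (hO : O ≤ ⊤), O.ι.appTop.hom f = dn _ (resM (unitModEt _) (openLE hO) t) := by
    intro O hO
    show (openHom E O).hom.left.left.appTop.hom (dn E (resM (unitModEt _) g' t)) = _
    rw [← dn_resM, ← resM_comp]
    refine congrArg (fun k => dn _ (resM (unitModEt _) k t)) ?_
    rw [← cancel_mono (openHom E ⊤), Category.assoc, hg', Category.comp_id, openLE_hom]
  refine ⟨f, ?_, ?_⟩
  · by_contra hn
    have h' : U.ι.appTop.hom f ∈ primeAtPt U.toScheme ⟨x, hxU⟩ := by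
      rw [← Ideal.mem_comap, primeAtPt_comap, mem_primeAtPt_iff]
      exact hn
    rw [hf le_top, show resM (unitModEt _) (openLE le_top) t = upS (openObj E U) 1 - a' from htA] at h'
    refine (isPrime_primeAtPt U.toScheme ⟨x, hxU⟩).ne_top ((Ideal.eq_top_iff_one _).2 ?_)
    have := Ideal.add_mem _ h' (hvan U a ⟨x, hxU⟩ (Or.inr rfl))
    refine (show _ = (1 : Γ(U.toScheme, ⊤)) from ?_) ▸ this
    exact sub_add_cancel _ _
  · have hle : Y.left.basicOpen f ≤ U := fun y hy => by
      by_contra hyU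
      have hyB : y ∈ B := fun e => hyU (e ▸ hxU)
      refine ((mem_primeAtPt_iff y f).1 ?_) hy
      rw [show y = B.ι ⟨y, hyB⟩ from rfl, ← primeAtPt_comap, Ideal.mem_comap]
      show B.ι.appTop.hom f ∈ _
      rw [hf le_top, show resM (unitModEt _) (openLE le_top) t = -b' from htB]
      exact Ideal.neg_mem_iff _ |>.2 (hvan B b ⟨y, hyB⟩ (Or.inl hyU))
    have e := Y.left.basicOpen_res f (homOfLE (le_top : U ≤ ⊤)).op
    rw [inf_eq_right.2 hle] at e
    exact e ▸ hU.basicOpen _

/-- multiplication by a global function -/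
def mulF (f : Γ(Y.left, ⊤)) : unitModEt ((yon S).obj Y) ⟶ unitModEt ((yon S).obj Y) :=
  (SheafOfModules.unitHomEquiv (unitModEt ((yon S).obj Y))).symm
    (PresheafOfModules.sectionsMk
      (fun W => upS W.unop (((isTerminalOfIso (Iso.refl _)).from W.unop).hom.left.left.appTop.hom f))
      fun W W' g => by
        show resM (unitModEt _) g.unop (upS _ _) = _
        rw [resM_upS]
        refine congrArg (upS W'.unop) ?_
        rw [← (isTerminalOfIso (Iso.refl ((yon S).obj Y))).comp_from g.unop]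
        rfl)

theorem appM_mulF (f : Γ(Y.left, ⊤)) (W : EtOver ((yon S).obj Y)) (g : W ⟶ top0 Y) (s : sectModEt (unitModEt _) W) :
    dn W (appM (mulF f) W s) = dn W s * g.hom.left.left.appTop.hom f := by
  have h1 : appM (mulF f) W (1 : R W) = upS W (g.hom.left.left.appTop.hom f) := by
    rw [(isTerminalOfIso (Iso.refl ((yon S).obj Y))).hom_ext g ((isTerminalOfIso (Iso.refl _)).from W)]
    exact congrArg (fun t : (unitModEt ((yon S).obj Y)).sections => t.1 (op W))
      ((SheafOfModules.unitHomEquiv (unitModEt ((yon S).obj Y))).apply_symm_apply _)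
  have h2 : appM (mulF f) W s = (show R W from s) • appM (mulF f) W (1 : R W) := by
    rw [← map_smul]
    exact congrArg _ (mul_one (show R W from s)).symm
  rw [h2, h1]
  rfl

theorem isAffine_of_h1Zero [CompactSpace Y.left] (h : H1Zero ((yon S).obj Y)) : IsAffine Y.left := by
  classical
  let W : Set Y.left := ⋃ f : {f : Γ(Y.left, ⊤) // IsAffineOpen (Y.left.basicOpen f)}, (Y.left.basicOpen f.1 : Set Y.left)
  have hW : W = Set.univ := by
    by_contra hne
    obtain ⟨x, hxW, hxc⟩ := IsClosed.exists_closed_singleton (S := Wᶜ)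
      (isOpen_iUnion fun f : {f : Γ(Y.left, ⊤) // IsAffineOpen (Y.left.basicOpen f)} => (Y.left.basicOpen f.1).2).isClosed_compl
      (Set.nonempty_compl.2 hne)
    obtain ⟨U, hU, hxU, -⟩ := exists_isAffineOpen_mem_and_subset (X := Y.left) (x := x) (U := ⊤) trivial
    obtain ⟨f, hxf, hf⟩ := exists_basicOpen_of_isClosed h hxc hU hxU
    exact hxW (Set.mem_iUnion.2 ⟨⟨f, hf⟩, hxf⟩)
  obtain ⟨s, hs⟩ := isCompact_univ.elim_finite_subcover
    (fun f : {f : Γ(Y.left, ⊤) // IsAffineOpen (Y.left.basicOpen f)} => (Y.left.basicOpen f.1 : Set Y.left))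
    (fun f => (Y.left.basicOpen f.1).2) hW.ge
  let X := (yon S).obj Y
  haveI := isQuasicoherent_unitModEt (X := X)
  let fs : Fin s.card → Γ(Y.left, ⊤) := fun i => (s.equivFin.symm i).1.1
  haveI := hasFiniteBiproducts_modEt X
  let N : Fin s.card → ModEt X := fun _ => unitModEt X
  haveI : (⨁ N).IsQuasicoherent := isQuasicoherent_biproduct N fun _ => inferInstanceAs (unitModEt X).IsQuasicoherent
  let φ : ⨁ N ⟶ unitModEt X := biproduct.desc fun i => mulF (fs i)
  haveI : Epi ((toAbEt X).map φ) := epi_of_surjective_affine _ fun E hE => fun r => by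
    haveI := hE
    let g := (isTerminalOfIso (Iso.refl X)).from E
    let c : Fin s.card → Γ(E.obj.left.left, ⊤) := fun i => g.hom.left.left.appTop.hom (fs i)
    have hc : Ideal.span (Set.range c) = ⊤ := by
      refine ((isAffineOpen_top E.obj.left.left).self_le_iSup_basicOpen_iff).1 fun w _ => ?_
      obtain ⟨f, hf, hwf⟩ := Set.mem_iUnion₂.1 (hs (Set.mem_univ (g.hom.left.left w)))
      refine TopologicalSpace.Opens.mem_iSup.2 ⟨⟨c (s.equivFin ⟨f, hf⟩), ⟨_, rfl⟩⟩, ?_⟩
      show w ∈ E.obj.left.left.basicOpen (g.hom.left.left.appTop.hom (fs (s.equivFin ⟨f, hf⟩)))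
      rw [← Scheme.preimage_basicOpen_top, show fs (s.equivFin ⟨f, hf⟩) = f.1 by simp [fs]]
      exact hwf
    obtain ⟨d, hd⟩ := (Ideal.mem_span_range_iff_exists_fun).1
      ((hc.symm ▸ Submodule.mem_top) : dn E r ∈ Ideal.span (Set.range c))
    refine ⟨∑ i, appM (biproduct.ι N i) E (upS E (d i)), ?_⟩
    show appM φ E _ = r
    rw [map_sum]
    have e : ∀ i, appM φ E (appM (biproduct.ι N i) E (upS E (d i))) = upS E (d i * c i) := fun i => by
      show appM (biproduct.ι N i ≫ φ) E _ = _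
      rw [biproduct.ι_desc]
      exact ULift.ext _ _ (appM_mulF (fs i) E g _)
    rw [Finset.sum_congr rfl fun i _ => e i]
    refine Eq.trans ?_ (congrArg (upS E) hd)
    exact (map_sum (ULift.ringEquiv.{u, u + 1} : ULift.{u + 1} Γ(E.obj.left.left, ⊤) ≃+* _).symm _ _).symm
  haveI : Epi φ := (toAbEt X).epi_of_epi_map inferInstance
  let T : ShortComplex (ModEt X) := ShortComplex.mk (kernel.ι φ) φ (kernel.condition φ)
  have hT : T.ShortExact := { exact := ShortComplex.exact_of_f_is_kernel _ (kernelIsKernel φ) }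
  haveI : T.X₁.IsQuasicoherent := isQuasicoherent_kernel φ
  obtain ⟨z, hz⟩ := surjective_sections (toAb_shortExact hT) (top0 Y)
    (subsingleton_ext_of_HEt (isTerminalOfIso (Iso.refl X)) _ _ (h T.X₁ inferInstance))
    (upS (top0 Y) 1)
  refine isAffine_of_isAffineOpen_basicOpen (Set.range fs) ((Ideal.eq_top_iff_one _).2 ?_) ?_
  · have hz' : appM φ (top0 Y) z = upS (top0 Y) 1 := hz
    have key : appM φ (top0 Y) z = ∑ i, appM (mulF (fs i)) (top0 Y) (appM (biproduct.π N i) (top0 Y) z) := by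
      have e : φ = ∑ i, biproduct.π N i ≫ mulF (fs i) := by
        rw [← Category.id_comp φ, ← biproduct.total, Preadditive.sum_comp]
        exact Finset.sum_congr rfl fun i _ => by rw [Category.assoc, biproduct.ι_desc]
      rw [e]
      exact map_sum (AddMonoidHom.mk' (fun ψ : ⨁ N ⟶ unitModEt X => appM ψ (top0 Y) z) fun _ _ => rfl) _ _
    have h2 := congrArg (dn (top0 Y)) (hz'.symm.trans key)
    change (1 : Γ(Y.left, ⊤)) = _ at h2
    rw [h2, show ∀ F : Fin s.card → sectModEt (unitModEt X) (top0 Y), dn (top0 Y) (∑ i, F i) = ∑ i, dn (top0 Y) (F i) from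
      fun F => map_sum (AddMonoidHom.mk' (dn (top0 Y)) fun _ _ => rfl) F _]
    refine Ideal.sum_mem _ fun i _ => ?_
    show dn (top0 Y) (appM (mulF (fs i)) (top0 Y) _) ∈ _
    rw [appM_mulF (fs i) (top0 Y) (𝟙 _)]
    exact Ideal.mul_mem_left _ _ (Ideal.subset_span ⟨i, by
      show fs i = (𝟙 Y.left : Y.left ⟶ Y.left).appTop.hom (fs i)
      simp⟩)
  · rintro _ ⟨i, rfl⟩
    exact (s.equivFin.symm i).1.2

end Groth.Agent.EtSerre
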