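import Groth.Agent.EtSerre.Basic
import Groth.Agent.EtVan.Leray
import Groth.Agent.EtQC.PushAff
import Groth.Agent.RelNorm.SheetsStrata
import Groth.Agent.SpChev.Results
import Groth.Agent.AlgSpLib.ProperCrit

/-!
Serre's criterion of affineness for algebraic spaces.
-/

set_option autoImplicit false
set_option linter.style.haveILetI false
set_option backward.isDefEq.respectTransparency false

universe u

noncomputable section

open CategoryTheory CategoryTheory.Limits CategoryTheory.Abelian AlgebraicGeometry Opposite AlgSp

namespace Groth.Agent.EtSerre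

open Groth.Agent.AlgSpLib

variable {S : Scheme.{u}}

/-- vanishing of first cohomology passes along affine morphisms -/
theorem h1Zero_of_isAffineMor {X' X : Sp S} (hX : IsAlgSpace X) (f : X' ⟶ X) (haff : IsAffineMor f) (h : H1Zero X) :
    H1Zero X' := fun M hM => by
  haveI := hM
  have hf : Representable f := ((isAffineMor_iff_repWith f).1 haff).1
  obtain ⟨e⟩ := Groth.Agent.EtVan.nonempty_H_addEquiv hf hX ((toAbEt X').obj M)
    (fun q => Groth.Agent.EtVan.isZero_RpushEt hf
      (fun E hE => by
        haveI := hE
        exact Groth.Agent.EtQC.isAffine_bc hf haff E) q _ (Groth.Agent.EtVan.affAcyc_toAb M)) 1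
  exact @Equiv.subsingleton _ _ e.toEquiv
    (h _ (Groth.Agent.EtQC.isQuasicoherent_push_affine hf haff M))

/-- a quasi-compact quasi-separated space with vanishing first cohomology is an affine scheme -/
theorem isAff_of_h1Zero [QuasiSeparatedSpace ↥S] (X : Space S) (hqc : IsQuasiCompactSp X.obj)
    (hqs : IsQuasiSeparatedSp X.obj) (h : H1Zero X.obj) :
    ∃ T : Over S, IsAffine T.left ∧ Nonempty ((yon S).obj T ≅ X.obj) := by
  haveI := compactSpace_of_isQuasiCompactSp hqc
  obtain ⟨U, p, hU, hpe, hps⟩ := exists_affine_chart_of_compact X.property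
  haveI := hU
  obtain ⟨Y, g, hg, hgs, -⟩ := Groth.Agent.RelNorm.exists_integral_cover X hqc hqs p hpe hps
  obtain ⟨P, a, b, sq⟩ := exists_pullback X.property.diag p g
  haveI : IsIntegralHom a.left := (repWith_yon_iff a).1 (repWith_baseChange sq.flip hg)
  haveI : Surjective b.left := (repWith_yon_iff b).1 (repWith_baseChange sq hps)
  haveI : CompactSpace ↥P.left := QuasiCompact.compactSpace_of_compactSpace a.left
  haveI : CompactSpace ↥Y.left := Function.Surjective.compactSpace b.left.continuous b.left.surjective
  have haff : IsAffineMor g := (isAffineMor_iff_repWith g).2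
    (repWith_mono (P := @IsIntegralHom) (Q := @IsAffineHom) (fun _ _ f hf => have : IsIntegralHom f := hf; inferInstance) hg)
  haveI := isAffine_of_h1Zero (h1Zero_of_isAffineMor X.property g haff h)
  exact Groth.Agent.SpChev.isAff_of_univClosed_surj X.property ⟨Y, inferInstance, ⟨Iso.refl _⟩⟩ g
    ((isUnivClosedMor_iff_repWith hg.1).2
      (repWith_mono (P := @IsIntegralHom) (Q := @UniversallyClosed)
        (fun _ _ f hf => have : IsIntegralHom f := hf; inferInstance) hg))
    (isSurjectiveMor_of_repWith hgs)

end Groth.Agent.EtSerre
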